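import Mathlib
import Cfsg.Agent.SylowCount.Basic

/-!
Elements lying in exactly one Sylow subgroup.
-/

namespace CfsgLib.UniqueSylow

open Subgroup

/-- Some element of `p`-power order lies in exactly one Sylow `p`-subgroup. -/
def HasUnique (p : ℕ) (G : Type*) [Group G] : Prop :=
  ∃ x : G, (∃ k : ℕ, orderOf x = p ^ k) ∧ ∃! P : Sylow p G, x ∈ P

variable {G : Type*} [Group G] [Finite G] {p : ℕ} [Fact p.Prime]

theorem hasUnique_of_isCyclic (P : Sylow p G) (hc : IsCyclic (P : Subgroup G)) : HasUnique p G := by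
  obtain ⟨x, hx⟩ := hc.exists_generator
  obtain ⟨k, hk⟩ := IsPGroup.iff_orderOf.mp P.2 x
  refine ⟨x, ⟨k, by rw [orderOf_coe]; exact hk⟩, P, x.2, fun Q hQ => Sylow.ext (P.3 Q.2 fun y hy => ?_)⟩
  obtain ⟨j, hj⟩ := mem_zpowers_iff.mp (hx ⟨y, hy⟩)
  have : (x : G) ^ j = y := by simpa using congrArg Subtype.val hj
  exact this ▸ Subgroup.zpow_mem _ hQ j

theorem mem_sylow_of_normalizes {x : G} (hx : IsPGroup p (zpowers x)) (P : Sylow p G)
    (h : x ∈ normalizer ((P : Subgroup G) : Set G)) : x ∈ (P : Subgroup G) := by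
  have h2 := hx.inf_normalizer_sylow P
  rw [show (normalizer (P : Set G) : Subgroup G) = normalizer ((P : Subgroup G) : Set G) from rfl,
    inf_eq_left.mpr (zpowers_le.mpr h)] at h2
  exact (inf_eq_left.mp h2.symm) (mem_zpowers x)

theorem isPGroup_zpowers_of_orderOf {x : G} {k : ℕ} (h : orderOf x = p ^ k) : IsPGroup p (zpowers x) :=
  IsPGroup.of_card (n := k) (by rw [Nat.card_zpowers, h])

theorem hasUnique_iff_of_central {H : Type*} [Group H] (f : G →* H) (hf : Function.Surjective f)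
    (hk : f.ker ≤ center G) : HasUnique p G ↔ HasUnique p H := by
  have : Finite H := Finite.of_surjective f hf
  have hmem : ∀ (x : G), IsPGroup p (zpowers x) → ∀ P : Sylow p G,
      x ∈ P ↔ f x ∈ P.mapSurjective hf := by
    intro x hx P
    refine ⟨fun h => mem_map_of_mem f h, fun h => ?_⟩
    obtain ⟨y, hy, he⟩ := h
    refine mem_sylow_of_normalizes hx P ?_
    have hker : y⁻¹ * x ∈ center G := hk (by rw [MonoidHom.mem_ker, map_mul, map_inv, he, inv_mul_cancel])
    have e : x = y * (y⁻¹ * x) := by group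
    rw [e]
    exact mul_mem (le_normalizer hy) (Subgroup.center_le_normalizer (s := ((P : Subgroup G) : Set G)) hker)
  have hinj : Function.Injective (Sylow.mapSurjective (p := p) hf) := by
    intro P Q h
    refine Sylow.ext (P.3 Q.2 fun x hx => ?_).symm
    have h' : f x ∈ Q.mapSurjective hf := h ▸ mem_map_of_mem f hx
    exact (hmem x (P.2.to_le (zpowers_le.mpr hx)) Q).mpr h'
  constructor
  · rintro ⟨x, ⟨k, hk⟩, P, hP, hu⟩
    obtain ⟨j, -, hj⟩ := (Nat.dvd_prime_pow Fact.out).mp (hk ▸ orderOf_map_dvd f x)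
    refine ⟨f x, ⟨j, hj⟩, P.mapSurjective hf, mem_map_of_mem f hP, fun Q hQ => ?_⟩
    obtain ⟨R, rfl⟩ := Sylow.mapSurjective_surjective hf p Q
    rw [hu R ((hmem x (isPGroup_zpowers_of_orderOf hk) R).mpr hQ)]
  · rintro ⟨y, -, P', hP', hu⟩
    obtain ⟨P, rfl⟩ := Sylow.mapSurjective_surjective hf p P'
    obtain ⟨x, hx, rfl⟩ := hP'
    obtain ⟨k, hk⟩ := IsPGroup.iff_orderOf.mp P.2 ⟨x, hx⟩
    refine ⟨x, ⟨k, by rw [← hk, orderOf_mk]⟩, P, hx, fun Q hQ => hinj (hu _ (mem_map_of_mem f hQ))⟩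

end CfsgLib.UniqueSylow
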