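import Mathlib
import Cfsg.Agent.UniqueSylow.Basic
import Cfsg.Agent.Linear.Basic
import Cfsg.Agent.TwoGroupsQ.UniqueInvolution
import Cfsg.Agent.Coprime.PTimesQ

/-!
Sylow subgroups of `SL₂` over a finite field and their intersections.
-/

namespace CfsgLib.UniqueSylow

open Subgroup Matrix

variable {F : Type*} [Field F]

local notation "SLT" => Matrix.SpecialLinearGroup (Fin 2) F
local notation "Mat" => Matrix (Fin 2) (Fin 2) F

theorem det_one (x : SLT) : (x : Mat) 0 0 * (x : Mat) 1 1 - (x : Mat) 0 1 * (x : Mat) 1 0 = 1 := by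
  rw [← Matrix.det_fin_two]; exact x.2

theorem sq_eq (x : SLT) : (x : Mat) * x = (Matrix.trace (x : Mat)) • (x : Mat) - 1 := by
  have h := det_one x
  ext i j
  fin_cases i <;> fin_cases j <;>
    simp [Matrix.mul_apply, Fin.sum_univ_two, Matrix.trace_fin_two] <;>
    first | ring1 | linear_combination h | linear_combination -h

theorem mem_center_iff_scalar (x : SLT) : x ∈ center SLT ↔ ∃ r : F, (x : Mat) = r • 1 := by
  rw [Matrix.SpecialLinearGroup.mem_center_iff]
  constructor
  · rintro ⟨r, -, h⟩
    exact ⟨r, by rw [← h, Matrix.scalar_apply, Matrix.smul_one_eq_diagonal]⟩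
  · rintro ⟨r, h⟩
    refine ⟨r, ?_, by rw [h, Matrix.scalar_apply, Matrix.smul_one_eq_diagonal]⟩
    have hd : (x : Mat).det = 1 := x.2
    rw [h, Matrix.det_smul, Matrix.det_one, mul_one] at hd
    exact hd

theorem center_cases {x : SLT} (hx : x ∈ center SLT) : (x : Mat) = 1 ∨ (x : Mat) = -1 := by
  obtain ⟨r, hr⟩ := (mem_center_iff_scalar x).mp hx
  have hd : (x : Mat).det = 1 := x.2
  rw [hr, Matrix.det_smul, Matrix.det_one, mul_one, Fintype.card_fin, sq, mul_self_eq_one_iff] at hd
  rcases hd with rfl | rfl <;> simp [hr]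

theorem sq_eq_one_of_mem_center {x : SLT} (hx : x ∈ center SLT) : x ^ 2 = 1 := by
  apply Subtype.ext
  rw [Matrix.SpecialLinearGroup.coe_pow]
  rcases center_cases hx with h | h <;> simp [h]

theorem noncentral_entries {x : SLT} (hx : x ∉ center SLT) :
    (x : Mat) 0 1 ≠ 0 ∨ (x : Mat) 1 0 ≠ 0 ∨ (x : Mat) 0 0 ≠ (x : Mat) 1 1 := by
  by_contra h
  push Not at h
  obtain ⟨h1, h2, h3⟩ := h
  apply hx
  rw [mem_center_iff_scalar]
  refine ⟨(x : Mat) 0 0, ?_⟩
  ext i j
  fin_cases i <;> fin_cases j <;> simp [h1, h2, h3]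

theorem exists_span {x : SLT} (hx : x ∉ center SLT) {M : Mat} (hM : M * x = (x : Mat) * M) :
    ∃ a b : F, M = a • 1 + b • (x : Mat) := by
  have e00 := congrFun (congrFun hM 0) 0
  have e01 := congrFun (congrFun hM 0) 1
  have e10 := congrFun (congrFun hM 1) 0
  simp only [Matrix.mul_apply, Fin.sum_univ_two] at e00 e01 e10
  rcases noncentral_entries hx with h | h | h
  · set b := M 0 1 / (x : Mat) 0 1 with hb
    have hb' : b * (x : Mat) 0 1 = M 0 1 := div_mul_cancel₀ _ h
    refine ⟨M 0 0 - b * (x : Mat) 0 0, b, ?_⟩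
    ext i j
    fin_cases i <;> fin_cases j <;> simp [hb']
    · field_simp [hb]
      have := h
      apply mul_left_cancel₀ h
      rw [← mul_assoc, mul_comm ((x : Mat) 0 1) b, hb']
      linear_combination -e00
    · apply mul_left_cancel₀ h
      linear_combination -e01 + ((x : Mat) 1 1 - (x : Mat) 0 0) * hb'.symm
  · set b := M 1 0 / (x : Mat) 1 0 with hb
    have hb' : b * (x : Mat) 1 0 = M 1 0 := div_mul_cancel₀ _ h
    refine ⟨M 0 0 - b * (x : Mat) 0 0, b, ?_⟩
    ext i j
    fin_cases i <;> fin_cases j <;> simp [hb']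
    · apply mul_left_cancel₀ h
      rw [← mul_assoc, mul_comm ((x : Mat) 1 0) b, hb']
      linear_combination e00
    · apply mul_left_cancel₀ h
      linear_combination e10 + ((x : Mat) 1 1 - (x : Mat) 0 0) * hb'.symm
  · have h' : (x : Mat) 0 0 - (x : Mat) 1 1 ≠ 0 := sub_ne_zero.mpr h
    set b := (M 0 0 - M 1 1) / ((x : Mat) 0 0 - (x : Mat) 1 1) with hb
    have hb' : b * ((x : Mat) 0 0 - (x : Mat) 1 1) = M 0 0 - M 1 1 := div_mul_cancel₀ _ h'
    refine ⟨M 0 0 - b * (x : Mat) 0 0, b, ?_⟩
    ext i j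
    fin_cases i <;> fin_cases j <;> simp
    · apply mul_left_cancel₀ h'
      linear_combination -e01 - (x : Mat) 0 1 * hb'
    · apply mul_left_cancel₀ h'
      linear_combination e10 - (x : Mat) 1 0 * hb'
    · linear_combination hb'

theorem commute_of_centralizing {x y z : SLT} (hx : x ∉ center SLT) (hy : y * x = x * y)
    (hz : z * x = x * z) : y * z = z * y := by
  obtain ⟨a, b, hab⟩ := exists_span hx (M := (y : Mat)) (congrArg Subtype.val hy)
  have hz' : (z : Mat) * x = x * z := congrArg Subtype.val hz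
  apply Subtype.ext
  rw [Matrix.SpecialLinearGroup.coe_mul, Matrix.SpecialLinearGroup.coe_mul, hab]
  simp [add_mul, mul_add, hz']

section Finite

variable [Fintype F]

theorem center_pElement {p : ℕ} [Fact p.Prime] (hp : p ≠ 2 ∨ ringChar F = 2) {x : SLT}
    (hx : IsPGroup p (zpowers x)) (hc : x ∈ center SLT) : x = 1 := by
  rcases hp with hp | hp
  · obtain ⟨k, hk⟩ := IsPGroup.iff_card.mp hx
    rw [Nat.card_zpowers] at hk
    have h := pow_gcd_eq_one.mpr ⟨pow_orderOf_eq_one x, sq_eq_one_of_mem_center hc⟩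
    rw [hk, Nat.coprime_iff_gcd_eq_one.mp (Nat.Coprime.pow_left k
      ((Nat.coprime_primes Fact.out Nat.prime_two).mpr hp)), pow_one] at h
    exact h
  · have : CharP F 2 := hp ▸ ringChar.charP F
    rcases center_cases hc with h | h
    · exact Subtype.ext h
    · apply Subtype.ext
      rw [h]
      ext i j
      rw [Matrix.neg_apply, CharTwo.neg_eq]; rfl

/-- Away from the central 2-element, Sylow subgroups are abelian. -/
theorem sylow_comm {p : ℕ} [Fact p.Prime] (hp : p ≠ 2 ∨ ringChar F = 2) (P : Sylow p SLT) :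
    ∀ a ∈ (P : Subgroup SLT), ∀ b ∈ (P : Subgroup SLT), a * b = b * a := by
  intro a ha b hb
  by_cases h : Nontrivial (P : Subgroup SLT)
  · have := P.2.center_nontrivial
    obtain ⟨⟨z, hz⟩, hz1⟩ := exists_ne (1 : center (P : Subgroup SLT))
    have hzc : (z : SLT) ∉ center SLT := fun hc => hz1 (Subtype.ext (Subtype.ext
      (center_pElement hp (P.2.to_le (zpowers_le.mpr z.2)) hc)))
    have hcz : ∀ c (hc : c ∈ (P : Subgroup SLT)), c * (z : SLT) = (z : SLT) * c := fun c hc =>
      congrArg Subtype.val (mem_center_iff.mp hz ⟨c, hc⟩)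
    exact commute_of_centralizing hzc (hcz a ha) (hcz b hb)
  · rw [not_nontrivial_iff_subsingleton] at h
    rw [show a = b from congrArg Subtype.val (Subsingleton.elim (⟨a, ha⟩ : (P : Subgroup SLT)) ⟨b, hb⟩)]

/-- Evaluation at an eigenvalue gives an injective character on a commuting semisimple group. -/
theorem isCyclic_of_centralizing {p : ℕ} [Fact p.Prime] (hp : p ≠ ringChar F) {z : SLT}
    (hz : z ∉ center SLT) (P : Subgroup SLT) (hP : IsPGroup p P) (hzP : ∀ w ∈ P, w * z = z * w) :
    IsCyclic P := by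
  classical
  let K := AlgebraicClosure F
  let t : F := Matrix.trace (z : Mat)
  let pol : Polynomial K := Polynomial.X ^ 2 - Polynomial.C (algebraMap F K t) * Polynomial.X + 1
  obtain ⟨l, hl⟩ : ∃ l : K, l * l = algebraMap F K t * l - 1 := by
    have hdeg : pol.degree ≠ 0 := by
      have : pol.degree = 2 := by
        simp only [pol]; compute_degree!
      rw [this]; decide
    obtain ⟨l, hl⟩ := IsAlgClosed.exists_root pol hdeg
    refine ⟨l, ?_⟩
    simp only [pol, Polynomial.IsRoot, Polynomial.eval_add, Polynomial.eval_sub, Polynomial.eval_mul,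
      Polynomial.eval_pow, Polynomial.eval_X, Polynomial.eval_C, Polynomial.eval_one] at hl
    linear_combination hl
  have hex : ∀ w : P, ∃ c : F × F, ((w : SLT) : Mat) = c.1 • 1 + c.2 • (z : Mat) := fun w => by
    obtain ⟨a, b, h⟩ := exists_span hz (M := ((w : SLT) : Mat)) (congrArg Subtype.val (hzP w w.2))
    exact ⟨(a, b), h⟩
  choose c hc using hex
  have huniq : ∀ a b a' b' : F, a • (1 : Mat) + b • (z : Mat) = a' • 1 + b' • (z : Mat) → a = a' ∧ b = b' := by
    intro a b a' b' h
    have hb : b = b' := by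
      by_contra hne
      apply hz
      rw [mem_center_iff_scalar]
      refine ⟨(a' - a) / (b - b'), ?_⟩
      have h1 : (b - b') • (z : Mat) = (a' - a) • 1 := by
        rw [sub_smul, sub_smul, sub_eq_sub_iff_add_eq_add, add_comm, h, add_comm]
      rw [← inv_smul_smul₀ (sub_ne_zero.mpr hne) (z : Mat), h1, smul_smul, div_eq_inv_mul]
    subst hb
    have h2 := congrFun (congrFun (add_right_cancel (G := Mat) h) 0) 0
    simp at h2
    exact ⟨h2, rfl⟩
  have hmul : ∀ a b a' b' : F, (a • (1 : Mat) + b • (z : Mat)) * (a' • 1 + b' • (z : Mat)) =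
      (a * a' - b * b') • 1 + (a * b' + b * a' + b * b' * t) • (z : Mat) := by
    intro a b a' b'
    simp only [add_mul, mul_add, smul_mul_assoc, mul_smul_comm, one_mul, mul_one, smul_smul, sq_eq z, smul_sub]
    module
  let ev : P →* K :=
    { toFun := fun w => algebraMap F K (c w).1 + algebraMap F K (c w).2 * l
      map_one' := by
        obtain ⟨h1, h2⟩ := huniq (c 1).1 (c 1).2 1 0 (by rw [← hc 1]; simp)
        rw [h1, h2]; simp
      map_mul' := fun v w => by
        obtain ⟨h1, h2⟩ := huniq _ _ _ _ (((hc (v * w)).symm.trans (Matrix.SpecialLinearGroup.coe_mul _ _)).trans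
          (by rw [hc v, hc w, hmul]))
        rw [h1, h2]
        simp only [map_sub, map_add, map_mul]
        linear_combination -(algebraMap F K (c v).2 * algebraMap F K (c w).2) * hl }
  refine isCyclic_of_injective_ringHom (G := P) ev ((injective_iff_map_eq_one' ev).mpr fun w => ⟨fun hw => ?_, fun h => by rw [h, map_one]⟩)
  -- both eigenvalues are one
  set a := (c w).1
  set b := (c w).2
  change algebraMap F K a + algebraMap F K b * l = 1 at hw
  have hdet : a * a + t * (a * b) + b * b = 1 := by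
    have h := det_one (w : SLT)
    have hz1 := det_one z
    rw [hc w] at h
    simp [t, Matrix.trace_fin_two] at h ⊢
    linear_combination h - b * b * hz1
  have htr : 2 * a + b * t = 2 := by
    have h2 : (algebraMap F K a + algebraMap F K b * (algebraMap F K t - l)) = 1 := by
      have := congrArg (algebraMap F K) hdet
      simp only [map_add, map_mul, map_one] at this
      calc algebraMap F K a + algebraMap F K b * (algebraMap F K t - l)
          = (algebraMap F K a + algebraMap F K b * l) *
            (algebraMap F K a + algebraMap F K b * (algebraMap F K t - l)) := by rw [hw, one_mul]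
        _ = 1 := by linear_combination this - (algebraMap F K b * algebraMap F K b) * hl
    apply (algebraMap F K).injective
    simp only [map_add, map_mul, map_ofNat]
    linear_combination hw + h2
  have hsq : (((w : SLT) : Mat) - 1) ^ 2 = 0 := by
    have htrw : Matrix.trace ((w : SLT) : Mat) = 2 := by
      rw [hc w, Matrix.trace_add, Matrix.trace_smul, Matrix.trace_smul, Matrix.trace_one, Fintype.card_fin,
        smul_eq_mul, smul_eq_mul]
      push_cast
      linear_combination htr
    rw [sq, sub_mul, mul_sub, mul_sub, sq_eq, htrw, one_mul, mul_one, one_mul, two_smul]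
    abel
  set r := ringChar F with hr
  have : CharP F r := ringChar.charP F
  have : Fact r.Prime := ⟨CharP.char_is_prime F r⟩
  have hwr : (w : SLT) ^ r = 1 := by
    apply Subtype.ext
    rw [Matrix.SpecialLinearGroup.coe_pow, Matrix.SpecialLinearGroup.coe_one]
    have hone := Commute.one_right (((w : SLT) : Mat))
    have : ((((w : SLT) : Mat) - 1)) ^ r = 0 :=
      pow_eq_zero_of_le (Nat.Prime.two_le Fact.out) hsq
    rw [sub_pow_char_of_commute r hone, one_pow, sub_eq_zero] at this
    exact this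
  obtain ⟨k, hk⟩ := IsPGroup.iff_orderOf.mp hP w
  have hwr' : w ^ r = 1 := Subtype.ext hwr
  have h := pow_gcd_eq_one.mpr ⟨pow_orderOf_eq_one w, hwr'⟩
  rw [hk, Nat.coprime_iff_gcd_eq_one.mp (Nat.Coprime.pow_left k
    ((Nat.coprime_primes Fact.out Fact.out).mpr hp)), pow_one] at h
  exact h

theorem hasUnique_of_ne_two_ne_char {p : ℕ} [Fact p.Prime] (hp2 : p ≠ 2) (hp : p ≠ ringChar F) :
    HasUnique p SLT := by
  inhabit Sylow p SLT
  set P : Sylow p SLT := default
  refine hasUnique_of_isCyclic P ?_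
  by_cases h : ∃ z ∈ (P : Subgroup SLT), z ∉ center SLT
  · obtain ⟨z, hz, hzc⟩ := h
    exact isCyclic_of_centralizing hp hzc P P.2 fun w hw => sylow_comm (Or.inl hp2) P w hw z hz
  · push Not at h
    have : Subsingleton (P : Subgroup SLT) := ⟨fun a b => Subtype.ext
      ((center_pElement (Or.inl hp2) (P.2.to_le (zpowers_le.mpr a.2)) (h a a.2)).trans
        (center_pElement (Or.inl hp2) (P.2.to_le (zpowers_le.mpr b.2)) (h b b.2)).symm)⟩
    infer_instance

theorem hasUnique_char {p : ℕ} [Fact p.Prime] (hp : ringChar F = p) : HasUnique p SLT := by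
  have : CharP F p := hp ▸ ringChar.charP F
  have hp' : p ≠ 2 ∨ ringChar F = 2 := by
    by_cases h : p = 2
    · exact Or.inr (hp.trans h)
    · exact Or.inl h
  let u : SLT := ⟨!![1, 1; 0, 1], by simp [Matrix.det_fin_two]⟩
  have hpow : ∀ n : ℕ, (u : Mat) ^ n = !![1, (n : F); 0, 1] := by
    intro n
    induction n with
    | zero => ext i j; fin_cases i <;> fin_cases j <;> simp
    | succ n ih => rw [pow_succ, ih]; ext i j; fin_cases i <;> fin_cases j <;> simp [u, Matrix.mul_apply, Fin.sum_univ_two]; ring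
  have hu : orderOf u = p ^ 1 := by
    rw [pow_one]
    refine orderOf_eq_prime ?_ fun h => ?_
    · apply Subtype.ext
      rw [Matrix.SpecialLinearGroup.coe_pow, hpow, CharP.cast_eq_zero F p]
      ext i j; fin_cases i <;> fin_cases j <;> simp
    · have := congrArg (fun g : SLT => (g : Mat) 0 1) h
      simp [u] at this
  have huc : u ∉ center SLT := fun h => by
    obtain ⟨r, hr⟩ := (mem_center_iff_scalar u).mp h
    have := congrFun (congrFun hr 0) 1
    simp [u] at this
  obtain ⟨P, hP⟩ := (isPGroup_zpowers_of_orderOf hu).exists_le_sylow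
  have huP : u ∈ P := hP (mem_zpowers u)
  refine ⟨u, ⟨1, hu⟩, P, huP, fun Q hQ => Sylow.ext (P.3 Q.2 fun w hw => ?_)⟩
  refine mem_sylow_of_normalizes (P.2.to_le (zpowers_le.mpr hw)) Q (centralizer_le_normalizer _ ?_)
  rw [mem_centralizer_iff]
  intro v hv
  exact commute_of_centralizing huc (sylow_comm hp' Q v hv u hQ) (sylow_comm hp' P w hw u huP)

/-- In odd characteristic an element squaring to one is central. -/
theorem mem_center_of_sq (h2 : (2 : F) ≠ 0) {y : SLT} (hy : y ^ 2 = 1) : (y : Mat) = 1 ∨ (y : Mat) = -1 := by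
  refine center_cases ((mem_center_iff_scalar y).mpr ?_)
  have hy' : (y : Mat) * y = 1 := by
    rw [← sq, ← Matrix.SpecialLinearGroup.coe_pow, hy, Matrix.SpecialLinearGroup.coe_one]
  rw [sq_eq, sub_eq_iff_eq_add, ← two_smul F (1 : Mat)] at hy'
  have ht : Matrix.trace (y : Mat) ≠ 0 := fun h => by
    rw [h, zero_smul] at hy'
    have := congrFun (congrFun hy' 0) 0
    simp at this
    exact h2 this.symm
  exact ⟨(Matrix.trace (y : Mat))⁻¹ * 2, by rw [← smul_smul, ← hy', inv_smul_smul₀ ht]⟩

theorem uniqueInvolution (h2 : (2 : F) ≠ 0) (P : Subgroup SLT) :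
    CfsgLib.TwoGroupsQ.HasUniqueOrderP P 2 := by
  intro x y hx hy hy1
  have hx' := mem_center_of_sq h2 (congrArg Subtype.val hx : (x : SLT) ^ 2 = 1)
  have hy' := mem_center_of_sq h2 (congrArg Subtype.val hy : (y : SLT) ^ 2 = 1)
  rcases hy' with h | h
  · exact absurd (Subtype.ext (Subtype.ext h)) hy1
  · rcases hx' with h' | h'
    · rw [show x = 1 from Subtype.ext (Subtype.ext h')]; exact one_mem _
    · rw [show x = y from Subtype.ext (Subtype.ext (h'.trans h.symm))]; exact mem_zpowers _

/-- `y^(q-1)`, `y^(q+1)` or `y^(2 char)` is trivial. -/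
theorem pow_cases (h2 : (2 : F) ≠ 0) (y : SLT) :
    y ^ (Fintype.card F - 1) = 1 ∨ y ^ (Fintype.card F + 1) = 1 ∨ y ^ (2 * ringChar F) = 1 := by
  set r := ringChar F
  have : CharP F r := ringChar.charP F
  have : Fact r.Prime := ⟨CharP.char_is_prime F r⟩
  obtain ⟨n, -, hq⟩ := FiniteField.card F r
  set t : F := Matrix.trace (y : Mat) with ht
  set s : Mat := (2 : F) • (y : Mat) - t • 1 with hs
  have hss : s * s = (t * t - 4) • 1 := by
    simp only [hs, sub_mul, mul_sub, smul_mul_assoc, mul_smul_comm, one_mul, mul_one, smul_smul, sq_eq, ← ht, smul_sub]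
    module
  set d := t * t - 4
  have hy : (y : Mat) = (2 : F)⁻¹ • (t • 1 + s) := by
    rw [hs, add_sub_cancel, inv_smul_smul₀ h2]
  by_cases hd : d = 0
  · refine Or.inr (Or.inr (Subtype.ext ?_))
    have hs0 : s ^ r = 0 := pow_eq_zero_of_le (Nat.Prime.two_le Fact.out) (by rw [sq, hss, hd, zero_smul])
    have hd0 : t * t - 4 = 0 := hd
    have htr : t ^ r * t ^ r = 2 ^ r * 2 ^ r := by
      rw [← mul_pow, ← mul_pow, show t * t = 2 * 2 by linear_combination hd0]
    rw [Matrix.SpecialLinearGroup.coe_pow, Matrix.SpecialLinearGroup.coe_one, mul_comm, pow_mul, hy, smul_pow,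
      add_pow_char_of_commute r ((Commute.one_left s).smul_left t), hs0, add_zero]
    simp only [smul_pow, one_pow, smul_smul]
    rw [mul_pow, sq (t ^ r), htr, ← sq, ← mul_pow, ← mul_pow, inv_mul_cancel₀ h2, one_pow, one_pow, one_smul]
  obtain ⟨m, hm⟩ : Odd (Fintype.card F) := by
    rw [hq]
    exact (Nat.Prime.odd_of_ne_two Fact.out fun h => h2 (by
      have := CharP.cast_eq_zero F r
      rw [h] at this
      exact_mod_cast this)).pow
  have hsq : s ^ Fintype.card F = (d ^ m) • s := by
    rw [hm, pow_succ, pow_mul, sq, hss, smul_pow, one_pow, smul_mul_assoc, one_mul]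
  have hdm : d ^ m = 1 ∨ d ^ m = -1 := by
    rw [← mul_self_eq_one_iff, ← pow_add, ← FiniteField.pow_card_sub_one_eq_one d hd, hm]
    congr 1; omega
  have hyq : (y : Mat) ^ Fintype.card F = (2 : F)⁻¹ • (t • 1 + (d ^ m) • s) := by
    rw [hy, smul_pow, FiniteField.pow_card]
    conv_lhs => rw [hq]
    rw [add_pow_char_pow_of_commute r _ ((Commute.one_left s).smul_left t), ← hq, smul_pow, FiniteField.pow_card, one_pow, hsq]
  rcases hdm with h | h
  · left
    rw [h, one_smul, ← hy] at hyq
    have e : y ^ (Fintype.card F - 1) * y = 1 * y := by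
      rw [← pow_succ, Nat.sub_add_cancel Fintype.card_pos, one_mul]
      exact Subtype.ext (by rw [Matrix.SpecialLinearGroup.coe_pow]; exact hyq)
    exact mul_right_cancel e
  · right; left
    apply Subtype.ext
    rw [Matrix.SpecialLinearGroup.coe_pow, Matrix.SpecialLinearGroup.coe_one, pow_succ, hyq, h, neg_one_smul, hy]
    simp only [smul_mul_assoc, mul_smul_comm, smul_smul, add_mul, mul_add, neg_mul, one_mul, mul_one, hss]
    have : (2 : F)⁻¹ * (2 : F)⁻¹ * 4 = 1 := by field_simp; norm_num
    match_scalars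
    · simp only [d]; linear_combination this
    · ring

/-- Every non-central element with distinct eigenvalues centralises an element of order `r` or `r'`. -/
theorem exists_centralizing (h2 : (2 : F) ≠ 0) {x : SLT} (hd : Matrix.trace (x : Mat) ^ 2 ≠ 4) {r r' : ℕ}
    (hr : r.Prime) (hr' : r'.Prime) (hro : r' ≠ 2) (hrd : r ∣ Fintype.card F - 1) (hrd' : r' ∣ Fintype.card F + 1) :
    ∃ w : SLT, w * x = x * w ∧ (orderOf w = r ∨ orderOf w = r') := by
  classical
  set t : F := Matrix.trace (x : Mat) with ht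
  set s : Mat := (2 : F) • (x : Mat) - t • 1 with hs
  have hsx : Commute s (x : Mat) := ((Commute.refl (x : Mat)).smul_left 2).sub_left ((Commute.one_left _).smul_left t)
  have hss : s * s = (t * t - 4) • 1 := by
    simp only [hs, sub_mul, mul_sub, smul_mul_assoc, mul_smul_comm, one_mul, mul_one, smul_smul, sq_eq, ← ht, smul_sub]
    module
  have hd' : t * t - 4 ≠ 0 := fun h => hd (by linear_combination h)
  set d := t * t - 4 with hddef
  let pt : F → F → Mat := fun a b => a • 1 + b • s
  have hmul : ∀ a b a' b', pt a b * pt a' b' = pt (a * a' + b * b' * d) (a * b' + b * a') := by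
    intro a b a' b'
    simp only [pt, add_mul, mul_add, smul_mul_assoc, mul_smul_comm, one_mul, mul_one, smul_smul, hss]
    module
  have hdet : ∀ a b, (pt a b).det = a ^ 2 - b ^ 2 * d := by
    intro a b
    have h1 := det_one x
    simp [pt, hs, d, ht, Matrix.det_fin_two, Matrix.trace_fin_two]
    linear_combination 4 * b ^ 2 * h1
  have hcomm : ∀ a b, pt a b * (x : Mat) = (x : Mat) * pt a b := fun a b =>
    (((Commute.one_left _).smul_left a).add_left (hsx.smul_left b)).eq
  have hinj : ∀ a b, pt a b = 0 → a = 0 ∧ b = 0 := by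
    intro a b h
    have hb : b = 0 := by
      by_contra hb
      have h1 := hmul a b a b
      have h2' := congrArg (fun M : Mat => (b⁻¹) • M) h
      have h3 : s = (-(b⁻¹ * a)) • (1 : Mat) := by
        simp only [pt, smul_add, smul_smul, inv_mul_cancel₀ hb, one_smul, smul_zero] at h2'
        rw [neg_smul, ← eq_neg_of_add_eq_zero_right h2']
      have h00 := congrFun (congrFun h3 0) 0
      have h11 := congrFun (congrFun h3 1) 1
      have h01 := congrFun (congrFun h3 0) 1
      have h10 := congrFun (congrFun h3 1) 0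
      simp [hs, ht, Matrix.trace_fin_two] at h00 h11
      simp [hs, h2] at h01 h10
      have hdd := det_one x
      apply hd'
      rw [hddef, ht, Matrix.trace_fin_two]
      rw [h01, zero_mul, sub_zero] at hdd
      have : (x : Mat) 0 0 = (x : Mat) 1 1 := by
        apply mul_left_cancel₀ h2; linear_combination h00 - h11
      linear_combination ((x : Mat) 0 0 - (x : Mat) 1 1) * this + 4 * hdd
    subst hb
    have := congrFun (congrFun h 0) 0
    simp [pt] at this
    exact ⟨this, rfl⟩
  have : Fact r.Prime := ⟨hr⟩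
  have : Fact r'.Prime := ⟨hr'⟩
  by_cases hsq : IsSquare d
  · obtain ⟨e, he⟩ := hsq
    have he0 : e ≠ 0 := fun h => hd' (by rw [he, h, mul_zero])
    have hone : ∀ c : Fˣ, (pt (((c : F) + (c : F)⁻¹) / 2) (((c : F) - (c : F)⁻¹) / (2 * e))).det = 1 := by
      intro c
      rw [hdet, he]
      have : (c : F) ≠ 0 := c.ne_zero
      field_simp
      ring
    let φ : Fˣ →* SLT :=
      { toFun := fun c => ⟨_, hone c⟩
        map_one' := Subtype.ext (by
          show pt _ _ = (1 : Mat)
          norm_num [pt, h2])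
        map_mul' := fun a b => Subtype.ext (by
          show pt _ _ = pt _ _ * pt _ _
          rw [hmul, he]
          have := a.ne_zero
          have := b.ne_zero
          congr 1 <;> (rw [Units.val_mul]; field_simp; ring)) }
    obtain ⟨c, hc⟩ := exists_prime_orderOf_dvd_card (G := Fˣ) r (by rw [Fintype.card_units]; exact hrd)
    refine ⟨φ c, Subtype.ext (hcomm _ _), Or.inl ?_⟩
    refine orderOf_eq_prime (by rw [← map_pow, ← hc, pow_orderOf_eq_one, map_one]) fun h => ?_
    have h' : pt (((c : F) + (c : F)⁻¹) / 2) (((c : F) - (c : F)⁻¹) / (2 * e)) = 1 := congrArg Subtype.val h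
    obtain ⟨ha, hb⟩ := hinj (((c : F) + (c : F)⁻¹) / 2 - 1) (((c : F) - (c : F)⁻¹) / (2 * e)) (by
      show _ = (0 : Mat)
      rw [show (1 : Mat) = (1 : F) • 1 from (one_smul F (1 : Mat)).symm] at h'
      simp only [pt, sub_smul] at h' ⊢
      linear_combination (norm := module) h')
    have : (c : F) = 1 := by
      have hc0 : (c : F) ≠ 0 := c.ne_zero
      field_simp at ha hb
      apply mul_left_cancel₀ h2
      apply mul_left_cancel₀ hc0
      linear_combination ha + hb
    rw [Units.val_eq_one] at this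
    rw [this, orderOf_one] at hc
    exact hr.ne_one hc.symm
  · -- the centraliser in the general linear group has order `q² - 1`
    have hne : ∀ v : F × F, v ≠ 0 → (pt v.1 v.2).det ≠ 0 := by
      intro v hv h
      rw [hdet] at h
      by_cases hb : v.2 = 0
      · rw [hb] at h; simp at h; exact hv (Prod.ext h hb)
      · exact hsq ⟨v.1 / v.2, by field_simp; linear_combination -h⟩
    let G' : Subgroup (GL (Fin 2) F) :=
      { carrier := {g | ∃ a b, (g : Mat) = pt a b}
        one_mem' := ⟨1, 0, by simp [pt]⟩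
        mul_mem' := by
          rintro g g' ⟨a, b, h⟩ ⟨a', b', h'⟩
          exact ⟨_, _, by rw [Units.val_mul, h, h', hmul]⟩
        inv_mem' := by
          rintro g ⟨a, b, h⟩
          have hv : ((a, b) : F × F) ≠ 0 := fun h0 => by
            obtain ⟨rfl, rfl⟩ := Prod.mk.inj h0
            exact g.ne_zero (by rw [h]; simp [pt])
          have hd0 := hne (a, b) hv
          rw [hdet] at hd0
          refine ⟨a / (a ^ 2 - b ^ 2 * d), -b / (a ^ 2 - b ^ 2 * d), ?_⟩
          apply Units.inv_eq_of_mul_eq_one_right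
          rw [h, hmul]
          have e1 : a * (a / (a ^ 2 - b ^ 2 * d)) + b * (-b / (a ^ 2 - b ^ 2 * d)) * d = 1 := by
            field_simp [hd0]; ring
          have e2 : a * (-b / (a ^ 2 - b ^ 2 * d)) + b * (a / (a ^ 2 - b ^ 2 * d)) = 0 := by ring
          rw [e1, e2]; simp [pt] }
    have hcard : Nat.card G' = Fintype.card F ^ 2 - 1 := by
      let f : {v : F × F // v ≠ 0} → G' := fun v =>
        ⟨Matrix.GeneralLinearGroup.mkOfDetNeZero (pt v.1.1 v.1.2) (hne v.1 v.2), ⟨v.1.1, v.1.2, rfl⟩⟩
      have hf : Function.Bijective f := by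
        constructor
        · intro v v' h
          have h' : pt v.1.1 v.1.2 = pt v'.1.1 v'.1.2 := congrArg (fun g : G' => ((g : GL (Fin 2) F) : Mat)) h
          obtain ⟨h1, h3⟩ := hinj (v.1.1 - v'.1.1) (v.1.2 - v'.1.2) (by
            simp only [pt, sub_smul] at h' ⊢
            linear_combination (norm := module) h')
          exact Subtype.ext (Prod.ext (sub_eq_zero.mp h1) (sub_eq_zero.mp h3))
        · rintro ⟨g, a, b, h⟩
          have hv : ((a, b) : F × F) ≠ 0 := fun h0 => by
            obtain ⟨rfl, rfl⟩ := Prod.mk.inj h0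
            exact g.ne_zero (by rw [h]; simp [pt])
          exact ⟨⟨(a, b), hv⟩, Subtype.ext (Units.ext h.symm)⟩
      rw [← Nat.card_eq_of_bijective f hf, Nat.card_eq_fintype_card, Fintype.card_subtype_compl,
        Fintype.card_subtype_eq, Fintype.card_prod, sq]
    obtain ⟨g, hg⟩ := exists_prime_orderOf_dvd_card' (G := G') r' (hrd'.trans (by
      rw [hcard]
      exact Dvd.intro (Fintype.card F - 1) (by
        have := Nat.sq_sub_sq (Fintype.card F) 1
        simpa using this.symm)))
    obtain ⟨a, b, hab⟩ := g.2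
    have hdg : ((g : GL (Fin 2) F) : Mat).det = 1 := by
      set δ := Matrix.GeneralLinearGroup.det (g : GL (Fin 2) F) with hδ
      have h1 : δ ^ r' = 1 := by
        rw [hδ, ← map_pow, ← Subgroup.coe_pow, ← hg, pow_orderOf_eq_one, OneMemClass.coe_one, map_one]
      have h3 : δ ^ (Fintype.card F - 1) = 1 := by rw [← Fintype.card_units]; exact pow_card_eq_one
      have hnd : ¬ r' ∣ Fintype.card F - 1 := fun h => by
        have h' := Nat.dvd_sub hrd' h
        rw [show Fintype.card F + 1 - (Fintype.card F - 1) = 2 by have := Fintype.card_pos (α := F); omega] at h'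
        exact hro ((Nat.prime_dvd_prime_iff_eq hr' Nat.prime_two).mp h')
      have h4 := pow_gcd_eq_one.mpr ⟨h1, h3⟩
      rw [Nat.coprime_iff_gcd_eq_one.mp ((Nat.Prime.coprime_iff_not_dvd hr').mpr hnd), pow_one] at h4
      exact congrArg Units.val h4
    refine ⟨⟨_, hdg⟩, Subtype.ext ((congrArg (fun M : Mat => M * (x : Mat)) hab).trans ((hcomm a b).trans (congrArg (fun M : Mat => (x : Mat) * M) hab.symm))), Or.inr ?_⟩
    refine orderOf_eq_prime (Subtype.ext ?_) fun h => ?_
    · show (((g : GL (Fin 2) F) : Mat)) ^ r' = 1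
      rw [← Units.val_pow_eq_pow_val, ← Subgroup.coe_pow, ← hg, pow_orderOf_eq_one]; rfl
    · have hg1 : g = 1 := Subtype.ext (Units.ext (congrArg Subtype.val h))
      rw [hg1, orderOf_one] at hg
      exact hr'.ne_one hg.symm

theorem two_ne_zero_of_char (h : ringChar F ≠ 2) : (2 : F) ≠ 0 := by
  intro h0
  have := ringChar.charP F
  have hd : ringChar F ∣ 2 := (CharP.cast_eq_zero_iff F (ringChar F) 2).mp (by exact_mod_cast h0)
  exact h ((Nat.prime_dvd_prime_iff_eq (CharP.char_is_prime F _) Nat.prime_two).mp hd)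

/-- Sylow 2-subgroups in odd characteristic are non-abelian. -/
theorem sylow_two_noncomm (h : ringChar F ≠ 2) (P : Sylow 2 SLT) :
    ∃ a ∈ (P : Subgroup SLT), ∃ b ∈ (P : Subgroup SLT), a * b ≠ b * a := by
  have h2 := two_ne_zero_of_char h
  obtain ⟨n, -, hq⟩ := FiniteField.card F (ringChar F)
  have hodd : Fintype.card F % 2 = 1 := FiniteField.odd_card_of_char_ne_two h
  obtain ⟨a, b, hab⟩ := FiniteField.exists_root_sum_quadratic (R := F) (f := Polynomial.X ^ 2 + Polynomial.C 1)
    (g := Polynomial.X ^ 2) (Polynomial.degree_X_pow_add_C two_pos 1) (Polynomial.degree_X_pow 2) hodd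
  have hab' : a ^ 2 + b ^ 2 = -1 := by
    simp at hab
    linear_combination hab
  let i : SLT := ⟨!![0, 1; -1, 0], by simp [Matrix.det_fin_two]⟩
  let j : SLT := ⟨!![a, b; b, -a], by simp [Matrix.det_fin_two]; first | linear_combination hab' | linear_combination -hab'⟩
  have hi : i ^ 4 = 1 := Subtype.ext (by
    rw [Matrix.SpecialLinearGroup.coe_pow]
    ext u v; fin_cases u <;> fin_cases v <;> simp [i, pow_succ, Matrix.mul_apply, Fin.sum_univ_two])
  have hj2 : (j : Mat) * j = -1 := by
    ext u v
    fin_cases u <;> fin_cases v <;> simp [j, Matrix.mul_apply, Fin.sum_univ_two] <;> first | ring1 | linear_combination hab' | linear_combination -hab'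
  have hj : j ^ 4 = 1 := Subtype.ext (by
    rw [Matrix.SpecialLinearGroup.coe_pow, Matrix.SpecialLinearGroup.coe_one, show 4 = 2 * 2 from rfl, pow_mul, sq (j : Mat), hj2, neg_one_sq])
  have hji : j * i = i⁻¹ * j := by
    apply Subtype.ext
    show (j : Mat) * (i : Mat) = Matrix.adjugate (i : Mat) * (j : Mat)
    ext u v
    fin_cases u <;> fin_cases v <;> simp [i, j, Matrix.mul_apply, Fin.sum_univ_two, Matrix.adjugate_fin_two]
  have hne : i * j ≠ j * i := by
    intro he
    have he' : (i : Mat) * (j : Mat) = (j : Mat) * (i : Mat) := congrArg Subtype.val he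
    have e00 := congrFun (congrFun he' 0) 0
    have e01 := congrFun (congrFun he' 0) 1
    simp [i, j, Matrix.SpecialLinearGroup.coe_mul, Matrix.mul_apply, Fin.sum_univ_two] at e00 e01
    have hb : b = 0 := by
      apply mul_left_cancel₀ h2; first | linear_combination e00 | linear_combination -e00
    have ha : a = 0 := by
      apply mul_left_cancel₀ h2; first | linear_combination e01 | linear_combination -e01
    rw [ha, hb] at hab'
    simp at hab'
  have hpi : IsPGroup 2 (zpowers i) := IsPGroup.of_card_dvd_pow (n := 2) (by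
    rw [Nat.card_zpowers]; exact orderOf_dvd_of_pow_eq_one hi)
  have hpj : IsPGroup 2 (zpowers j) := IsPGroup.of_card_dvd_pow (n := 2) (by
    rw [Nat.card_zpowers]; exact orderOf_dvd_of_pow_eq_one hj)
  have hnorm : zpowers j ≤ normalizer ((zpowers i : Subgroup SLT) : Set SLT) := by
    rw [zpowers_le, Subgroup.mem_normalizer_iff]
    intro w
    have hjc : ∀ k : ℤ, j * i ^ k * j⁻¹ = i ^ (-k) := by
      intro k
      rw [← conj_zpow, hji, mul_inv_cancel_right, _root_.inv_zpow']
    constructor
    · rintro ⟨k, rfl⟩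
      exact ⟨-k, (hjc k).symm⟩
    · rintro ⟨k, hk⟩
      refine ⟨-k, ?_⟩
      have h5 := hjc (-k)
      simp only at hk; rw [neg_neg, hk] at h5
      exact mul_left_cancel (mul_right_cancel h5)
  obtain ⟨R, hR⟩ := (IsPGroup.to_sup_of_normal_left' hpi hpj hnorm).exists_le_sylow
  obtain ⟨g, rfl⟩ := MulAction.exists_smul_eq SLT R P
  refine ⟨g * i * g⁻¹, ?_, g * j * g⁻¹, ?_, fun he => hne ?_⟩
  · rw [Sylow.coe_subgroup_smul]; exact smul_mem_pointwise_smul _ (MulAut.conj g) _ (hR (le_sup_left (b := zpowers j) (mem_zpowers i)))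
  · rw [Sylow.coe_subgroup_smul]; exact smul_mem_pointwise_smul _ (MulAut.conj g) _ (hR (le_sup_right (a := zpowers i) (mem_zpowers j)))
  · have := congrArg (fun z => g⁻¹ * z * g) he
    simpa [mul_assoc] using this

theorem trace_sq_ne_four (h : ringChar F ≠ 2) {x : SLT} (hx : IsPGroup 2 (zpowers x)) (hxc : x ∉ center SLT) :
    Matrix.trace (x : Mat) ^ 2 ≠ 4 := by
  have h2 := two_ne_zero_of_char h
  intro ht
  set r := ringChar F
  have : CharP F r := ringChar.charP F
  have : Fact r.Prime := ⟨CharP.char_is_prime F r⟩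
  set t : F := Matrix.trace (x : Mat) with htd
  have hcases : t = 2 ∨ t = -2 := sq_eq_sq_iff_eq_or_eq_neg.mp (by rw [ht]; norm_num)
  -- `x²` has trace two and is unipotent
  have htr : Matrix.trace ((x : Mat) * (x : Mat)) = 2 := by
    rw [sq_eq, Matrix.trace_sub, Matrix.trace_smul, Matrix.trace_one, Fintype.card_fin, smul_eq_mul, ← htd]
    push_cast
    linear_combination ht
  have hnil : (((x : Mat) * (x : Mat)) - 1) ^ 2 = 0 := by
    have h3 := sq_eq (x * x)
    rw [Matrix.SpecialLinearGroup.coe_mul, htr] at h3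
    rw [sq, sub_mul, mul_sub, mul_sub, h3, one_mul, mul_one, one_mul, two_smul]
    abel
  have hxr : (x * x) ^ r = 1 := by
    apply Subtype.ext
    rw [Matrix.SpecialLinearGroup.coe_pow, Matrix.SpecialLinearGroup.coe_mul, Matrix.SpecialLinearGroup.coe_one]
    have h4 : (((x : Mat) * (x : Mat)) - 1) ^ r = 0 := pow_eq_zero_of_le (Nat.Prime.two_le Fact.out) hnil
    rw [sub_pow_char_of_commute r (Commute.one_right _), one_pow, sub_eq_zero] at h4
    exact h4
  obtain ⟨k, hk⟩ := IsPGroup.iff_card.mp hx
  rw [Nat.card_zpowers] at hk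
  have h5 := pow_gcd_eq_one.mpr ⟨(show (x * x) ^ 2 ^ k = 1 by
    rw [← sq, ← pow_mul, mul_comm, pow_mul, ← hk, pow_orderOf_eq_one, one_pow]), hxr⟩
  rw [Nat.coprime_iff_gcd_eq_one.mp (Nat.Coprime.pow_left k
    ((Nat.coprime_primes Nat.prime_two Fact.out).mpr fun e => h e.symm)), pow_one, ← sq] at h5
  exact hxc ((mem_center_iff_scalar x).mpr (by
    rcases mem_center_of_sq h2 h5 with e | e
    · exact ⟨1, by rw [e, one_smul]⟩
    · exact ⟨-1, by rw [e, neg_one_smul]⟩))

theorem not_hasUnique_two (h : ringChar F ≠ 2) (h1 : ¬ ∃ k, Fintype.card F + 1 = 2 ^ k)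
    (h3 : ¬ ∃ k, Fintype.card F = 2 ^ k + 1) : ¬ HasUnique 2 SLT := by
  have h2 := two_ne_zero_of_char h
  have hodd := FiniteField.odd_card_of_char_ne_two h
  obtain ⟨r, hr, hrd, hr2⟩ : ∃ r, r.Prime ∧ r ∣ Fintype.card F - 1 ∧ r ≠ 2 := by
    by_contra hall
    push Not at hall
    have hne : Fintype.card F - 1 ≠ 0 := by have := Fintype.one_lt_card (α := F); omega
    exact h3 ⟨(Fintype.card F - 1).primeFactorsList.length, by
      rw [← Nat.eq_prime_pow_of_unique_prime_dvd hne (p := 2) fun {d} hd hdd => hall d hd hdd]; omega⟩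
  obtain ⟨r', hr', hrd', hr2'⟩ : ∃ r, r.Prime ∧ r ∣ Fintype.card F + 1 ∧ r ≠ 2 := by
    by_contra hall
    push Not at hall
    exact h1 ⟨_, Nat.eq_prime_pow_of_unique_prime_dvd (by omega) (p := 2) fun {d} hd hdd => hall d hd hdd⟩
  -- every non-central 2-element lies in two Sylow subgroups
  have hmove : ∀ (P : Sylow 2 SLT) (x : SLT), x ∈ P → x ∉ center SLT →
      ∃ t : SLT, t * x = x * t ∧ t • P ≠ P := by
    intro P x hxP hxc
    obtain ⟨t, ht, hto⟩ := exists_centralizing h2 (trace_sq_ne_four h (P.2.to_le (zpowers_le.mpr hxP)) hxc) hr hr' hr2' hrd hrd'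
    refine ⟨t, ht, fun hfix => ?_⟩
    have htodd : (orderOf t).Coprime 2 := by
      rcases hto with e | e <;> rw [e]
      · exact (Nat.coprime_primes hr Nat.prime_two).mpr hr2
      · exact (Nat.coprime_primes hr' Nat.prime_two).mpr hr2'
    have htN : t ∈ normalizer ((P : Subgroup SLT) : Set SLT) := Sylow.smul_eq_iff_mem_normalizer.mp hfix
    let X : Subgroup SLT := (P : Subgroup SLT) ⊓ centralizer ({x} : Set SLT)
    have hXt : X ≤ centralizer ((zpowers t : Subgroup SLT) : Set SLT) := by
      rw [le_centralizer_iff, zpowers_le, mem_centralizer_iff]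
      intro v hv
      exact commute_of_centralizing hxc (mem_centralizer_singleton_iff.mp hv.2) ht
    have hcent := CfsgLib.Coprime.le_centralizer_of_inf_centralizer_le (p := 2) (U := (P : Subgroup SLT))
      (P := X) (Q := zpowers t) P.2.to_inf_left (by rwa [Nat.card_zpowers]) P.2 hXt
      (inf_le_left.trans le_normalizer) (zpowers_le.mpr htN) (fun v hv => hXt ⟨hv.1, by
        show v ∈ centralizer ({x} : Set SLT)
        rw [mem_centralizer_singleton_iff]
        exact (mem_centralizer_iff.mp hv.2 x (mem_inf.mpr ⟨hxP, mem_centralizer_singleton_iff.mpr rfl⟩)).symm⟩)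
    obtain ⟨a, ha, b, hb, hab⟩ := sylow_two_noncomm h P
    have htc : t ∉ center SLT := fun hc => by
      have h6 := pow_gcd_eq_one.mpr ⟨pow_orderOf_eq_one t, sq_eq_one_of_mem_center hc⟩
      rw [Nat.coprime_iff_gcd_eq_one.mp htodd, pow_one] at h6
      rw [h6, orderOf_one] at hto
      rcases hto with e | e
      · exact hr.ne_one e.symm
      · exact hr'.ne_one e.symm
    have hcomm := fun v hv => mem_centralizer_iff.mp (hcent (mem_zpowers t)) v hv
    exact hab (commute_of_centralizing htc (hcomm a ha) (hcomm b hb))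
  rintro ⟨x, ⟨k, hk⟩, P, hP, hu⟩
  by_cases hxc : x ∈ center SLT
  · obtain ⟨a, ha, b, hb, hab⟩ := sylow_two_noncomm h P
    obtain ⟨t, -, htP⟩ := hmove P a ha fun hc => hab (mem_center_iff.mp hc b).symm
    exact htP (hu _ (mem_sylow_of_normalizes (isPGroup_zpowers_of_orderOf hk) _
      (Subgroup.center_le_normalizer (s := (((t • P : Sylow 2 SLT) : Subgroup SLT) : Set SLT)) hxc)))
  · obtain ⟨t, ht, htP⟩ := hmove P x hP hxc
    refine htP (hu _ ?_)
    show x ∈ ((t • P : Sylow 2 SLT) : Subgroup SLT)
    rw [Sylow.coe_subgroup_smul, show x = MulAut.conj t x by rw [MulAut.conj_apply, ht, mul_inv_cancel_right]]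
    exact smul_mem_pointwise_smul _ (MulAut.conj t) _ hP

theorem hasUnique_two (h : ringChar F ≠ 2)
    (hk : (∃ k, Fintype.card F + 1 = 2 ^ k) ∨ ∃ k, Fintype.card F = 2 ^ k + 1) : HasUnique 2 SLT := by
  classical
  have h2 := two_ne_zero_of_char h
  have hodd := FiniteField.odd_card_of_char_ne_two h
  inhabit Sylow 2 SLT
  set P : Sylow 2 SLT := default with hP
  rcases CfsgLib.TwoGroupsQ.isCyclic_or_quaternion P.2 (uniqueInvolution h2 P) with hc | ⟨-, m, hm, ⟨e⟩⟩
  · exact hasUnique_of_isCyclic P hc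
  set x : SLT := ((e.symm (QuaternionGroup.a 1) : (P : Subgroup SLT)) : SLT) with hx
  have hxP : x ∈ (P : Subgroup SLT) := SetLike.coe_mem _
  have hxo : orderOf x = 2 * 2 ^ m := by rw [hx, orderOf_coe, MulEquiv.orderOf_eq, QuaternionGroup.orderOf_a_one]
  have hPc : Nat.card (P : Subgroup SLT) = 2 * (2 * 2 ^ m) := by
    rw [Nat.card_congr e.toEquiv, Nat.card_eq_fintype_card, QuaternionGroup.card]; ring
  have h4x : 4 ∣ orderOf x := by
    rw [hxo]; obtain ⟨j, rfl⟩ : ∃ j, m = j + 1 := ⟨m - 1, by omega⟩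
    exact ⟨2 ^ j, by ring⟩
  have hxc : x ∉ center SLT := fun hc => by
    have := orderOf_dvd_of_pow_eq_one (sq_eq_one_of_mem_center hc)
    exact absurd (Nat.le_of_dvd two_pos (h4x.trans this)) (by norm_num)
  have hxp : IsPGroup 2 (zpowers x) := P.2.to_le (zpowers_le.mpr hxP)
  -- the centraliser of `x` has no element of odd prime order
  have hC : IsPGroup 2 (centralizer ({x} : Set SLT)) := by
    obtain ⟨n, hn⟩ : ∃ n, Nat.card (centralizer ({x} : Set SLT)) = 2 ^ n := by
      refine ⟨_, Nat.eq_prime_pow_of_unique_prime_dvd Nat.card_pos.ne' fun {d} hd hdd => ?_⟩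
      by_contra hd2
      have : Fact d.Prime := ⟨hd⟩
      obtain ⟨⟨w, hw⟩, hwo⟩ := exists_prime_orderOf_dvd_card' d hdd
      rw [orderOf_mk] at hwo
      have hcomm : Commute x w := (mem_centralizer_singleton_iff.mp hw).symm
      have hcop : (orderOf x).Coprime (orderOf w) := by
        rw [hxo, hwo, show 2 * 2 ^ m = 2 ^ (m + 1) by ring]
        exact Nat.Coprime.pow_left _ ((Nat.coprime_primes Nat.prime_two hd).mpr fun e => hd2 e.symm)
      have hord : orderOf (x * w) = 2 * 2 ^ m * d := by
        rw [hcomm.orderOf_mul_eq_mul_orderOf_of_coprime hcop, hxo, hwo]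
      -- `|x|` is the 2-part of one of `q - 1`, `q + 1`
      have hv : 2 * (2 * 2 ^ m) ∣ Fintype.card F ^ 2 - 1 := by
        have h1 : Nat.card (P : Subgroup SLT) ∣ Nat.card SLT := card_subgroup_dvd_card _
        rw [hPc, CfsgLib.Linear.card_SL_two] at h1
        refine (Nat.Coprime.dvd_of_dvd_mul_left ?_ h1)
        rw [show 2 * (2 * 2 ^ m) = 2 ^ (m + 2) by ring]
        exact Nat.Coprime.pow_left _ ((Nat.Prime.coprime_iff_not_dvd Nat.prime_two).mpr (by omega))
      have hfull : ∀ j, 2 ^ j ∣ Fintype.card F ^ 2 - 1 → 2 ^ j ∣ 2 * (2 * 2 ^ m) := by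
        intro j hj
        rw [← hPc, P.card_eq_multiplicity]
        refine pow_dvd_pow 2 ?_
        exact (Nat.Prime.pow_dvd_iff_le_factorization Nat.prime_two Nat.card_pos.ne').mp
          (by rw [CfsgLib.Linear.card_SL_two]; exact hj.mul_left _)
      have hsq : Fintype.card F ^ 2 - 1 = (Fintype.card F + 1) * (Fintype.card F - 1) := by
        have := Nat.sq_sub_sq (Fintype.card F) 1
        simpa using this
      have hd3 : 3 ≤ d := by
        have := hd.two_le
        omega
      have hchar : ¬ 2 * 2 ^ m * d ∣ 2 * ringChar F := by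
        intro hdv
        have : 4 ∣ 2 * ringChar F := (h4x.trans (hxo ▸ dvd_mul_right _ d)).trans hdv
        have hro : ringChar F % 2 = 1 := Nat.odd_iff.mp
          ((CharP.char_is_prime F (ringChar F)).odd_of_ne_two h)
        omega
      rcases pow_cases h2 (x * w) with e1 | e1 | e1
      case inr.inr => exact hchar (hord ▸ orderOf_dvd_of_pow_eq_one e1)
      all_goals
        have hdv := hord ▸ orderOf_dvd_of_pow_eq_one e1
        have hv4 : 4 ∣ 2 * 2 ^ m * d := (hxo ▸ h4x).mul_right d
        rcases hk with ⟨k, hk⟩ | ⟨k, hk⟩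
      case inl.inl =>
        -- `q + 1` is a power of two and `4 ∣ q - 1`
        have hk1 : k ≤ 1 := by
          by_contra hk1
          have : 4 ∣ Fintype.card F + 1 := hk ▸ (show (4:ℕ) = 2 ^ 2 from rfl) ▸ pow_dvd_pow 2 (by omega : 2 ≤ k)
          have := hv4.trans hdv
          omega
        have := Nat.pow_le_pow_right two_pos hk1
        have := Fintype.one_lt_card (α := F)
        omega
      case inl.inr =>
        have : d ∣ 2 ^ k := by
          rw [show (2:ℕ) ^ k = Fintype.card F - 1 by omega]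
          exact (dvd_mul_left d _).trans hdv
        exact hd2 ((Nat.prime_dvd_prime_iff_eq hd Nat.prime_two).mp (hd.dvd_of_dvd_pow this))
      case inr.inl.inl =>
        have : d ∣ 2 ^ k := by rw [← hk]; exact (dvd_mul_left d _).trans hdv
        exact hd2 ((Nat.prime_dvd_prime_iff_eq hd Nat.prime_two).mp (hd.dvd_of_dvd_pow this))
      case inr.inl.inr =>
        have hk1 : k ≤ 1 := by
          by_contra hk1
          have : 4 ∣ Fintype.card F - 1 := by
            rw [hk, Nat.add_sub_cancel]
            exact (show (4:ℕ) = 2 ^ 2 from rfl) ▸ pow_dvd_pow 2 (by omega : 2 ≤ k)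
          have := hv4.trans hdv
          omega
        have h9 := Nat.pow_le_pow_right two_pos hk1
        have := Fintype.one_lt_card (α := F)
        -- `q = 3`
        have hq3 : Fintype.card F = 3 := by omega
        rw [hq3] at hdv
        have h10 := Nat.le_of_dvd (by norm_num) hdv
        have : 2 * 2 ^ m * d ≥ 12 := by
          have : 2 ^ 1 ≤ 2 ^ m := Nat.pow_le_pow_right two_pos hm
          nlinarith
        omega
    exact IsPGroup.of_card hn
  -- the normalizer of `⟨x⟩` is a 2-group
  set N : Subgroup SLT := normalizer ((zpowers x : Subgroup SLT) : Set SLT) with hN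
  have hNp : IsPGroup 2 N := by
    rintro ⟨g, hg⟩
    have hgx : g * x * g⁻¹ ∈ zpowers x := (mem_normalizer_iff.mp hg x).mp (mem_zpowers x)
    obtain ⟨i, hi⟩ := mem_zpowers_iff.mp hgx
    have hcy : (g * x * g⁻¹) * x = x * (g * x * g⁻¹) := hi ▸ (Commute.zpow_self x i).eq
    set y := g * x * g⁻¹ with hy
    have htr : Matrix.trace (y : Mat) = Matrix.trace (x : Mat) := by
      rw [hy, Matrix.SpecialLinearGroup.coe_mul, Matrix.trace_mul_comm, ← Matrix.SpecialLinearGroup.coe_mul,
        ← mul_assoc, inv_mul_cancel, one_mul]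
    have hyy : y = x ∨ y = x⁻¹ := by
      obtain ⟨a, b, hab⟩ := exists_span hxc (M := (y : Mat)) (congrArg Subtype.val hcy)
      set t := Matrix.trace (x : Mat) with ht
      have h1 : 2 * a + b * t = t := by
        rw [hab] at htr
        rw [Matrix.trace_add, Matrix.trace_smul, Matrix.trace_smul, Matrix.trace_one, Fintype.card_fin, smul_eq_mul, smul_eq_mul] at htr
        push_cast at htr
        linear_combination htr
      have h2' : a ^ 2 + a * b * t + b ^ 2 = 1 := by
        have hd := det_one y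
        have hd' := det_one x
        rw [hab] at hd
        simp [ht, Matrix.trace_fin_two] at hd ⊢
        linear_combination hd - b ^ 2 * hd'
      have hD : t ^ 2 - 4 ≠ 0 := sub_ne_zero.mpr (trace_sq_ne_four h hxp hxc)
      have hb : b ^ 2 = 1 := by
        have : (t ^ 2 - 4) * (b ^ 2 - 1) = 0 := by
          linear_combination (2 * a + b * t + t) * h1 - 4 * h2'
        have := (mul_eq_zero.mp this).resolve_left hD
        linear_combination this
      rcases sq_eq_one_iff.mp hb with rfl | rfl
      · left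
        have : a = 0 := by apply mul_left_cancel₀ h2; linear_combination h1
        apply Subtype.ext
        rw [hab, this]; simp
      · right
        have : a = t := by apply mul_left_cancel₀ h2; linear_combination h1
        rw [eq_inv_iff_mul_eq_one]
        apply Subtype.ext
        rw [Matrix.SpecialLinearGroup.coe_mul, hab, this, ht, add_mul, smul_mul_assoc, smul_mul_assoc, one_mul, sq_eq]
        simp
    have hg2 : g ^ 2 ∈ centralizer ({x} : Set SLT) := by
      rw [mem_centralizer_singleton_iff]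
      have : g ^ 2 * x * (g ^ 2)⁻¹ = x := by
        have e2 : g ^ 2 * x * (g ^ 2)⁻¹ = g * y * g⁻¹ := by rw [hy, sq]; group
        rw [e2]
        rcases hyy with e | e <;> rw [e]
        · exact e
        · rw [← conj_inv, ← hy, e, inv_inv]
      exact mul_inv_eq_iff_eq_mul.mp this
    obtain ⟨j, hj⟩ := hC ⟨g ^ 2, hg2⟩
    refine ⟨j + 1, Subtype.ext ?_⟩
    have := congrArg Subtype.val hj
    simpa [pow_succ', pow_mul] using this
  obtain ⟨kk, hkk⟩ := IsPGroup.iff_card.mp hxp
  rw [Nat.card_zpowers] at hkk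
  refine ⟨x, ⟨kk, hkk⟩, P, hxP, fun Q hQ => ?_⟩
  have hle : ∀ R : Sylow 2 SLT, x ∈ R → (R : Subgroup SLT) ≤ N := by
    intro R hR
    have hRc : Nat.card (R : Subgroup SLT) = 2 * (2 * 2 ^ m) := by
      rw [← hPc]; exact Nat.card_congr (R.equiv P).toEquiv
    have : ((zpowers x).subgroupOf (R : Subgroup SLT)).Normal := by
      apply normal_of_index_eq_two
      have h7 := card_mul_index ((zpowers x).subgroupOf (R : Subgroup SLT))
      rw [Nat.card_congr (subgroupOfEquivOfLe (zpowers_le.mpr hR)).toEquiv, Nat.card_zpowers, hxo, hRc] at h7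
      exact Nat.eq_of_mul_eq_mul_left (by positivity) (h7.trans (mul_comm _ _))
    exact (normal_subgroupOf_iff_le_normalizer (zpowers_le.mpr hR)).mp this
  exact Sylow.ext ((Q.3 hNp (hle Q hQ)).symm.trans (P.3 hNp (hle P hxP)))

/-- When some element of `p`-power order of `SL₂(q)` lies in a single Sylow `p`-subgroup. -/
theorem not_hasUnique_iff {p : ℕ} [Fact p.Prime] : ¬ HasUnique p SLT ↔
    (p = 2 ∧ (¬ ∃ k : ℕ, Fintype.card F + 1 = 2 ^ k) ∧ (¬ ∃ k : ℕ, Fintype.card F = 2 ^ k) ∧
      ¬ ∃ k : ℕ, Fintype.card F = 2 ^ k + 1) := by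
  have := ringChar.charP F
  obtain ⟨n, hp', hq⟩ := FiniteField.card F (ringChar F)
  constructor
  · intro hn
    have hpc : ringChar F ≠ p := fun h => hn (hasUnique_char h)
    obtain rfl : p = 2 := by_contra fun h => hn (hasUnique_of_ne_two_ne_char h (Ne.symm hpc))
    refine ⟨rfl, fun h => hn (hasUnique_two hpc (Or.inl h)), ?_, fun h => hn (hasUnique_two hpc (Or.inr h))⟩
    rintro ⟨k, hk⟩
    have h1 : ringChar F ∣ 2 ^ k := hk ▸ hq ▸ dvd_pow_self _ n.pos.ne'
    exact hpc ((Nat.prime_dvd_prime_iff_eq hp' Nat.prime_two).mp (hp'.dvd_of_dvd_pow h1))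
  · rintro ⟨rfl, h1, h0, h3⟩
    exact not_hasUnique_two (fun h => h0 ⟨n, by rw [hq, h]⟩) h1 h3

end Finite

end CfsgLib.UniqueSylow
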